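import Groth.Agent.Et18.DefT1T1
import Groth.Agent.Et18.DefGlue
import Groth.Agent.ArtFunLib.Functor

/-!
# Deformations over `k[W]` and `T¹`
-/

set_option autoImplicit false
set_option backward.isDefEq.respectTransparency.types false
set_option backward.isDefEq.respectTransparency false
set_option linter.style.haveILetI false
universe u

open AlgebraicGeometry CategoryTheory TensorProduct ArtFun ArtFun.Art CotT

noncomputable section

namespace Groth.Agent.SemiExt29

open Et18

variable (Λ k : Type u) [CommRing Λ] [Field k] [Algebra Λ k]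

/-- `k[W]` for `W = k^n`. -/
noncomputable def artW (n : ℕ) : Art Λ k :=
  { carrier := TrivSqZeroExt k (Fin n → k)
    isLocalRing := isLocalRing_tsze k (Fin n → k)
    isArtinianRing := isArtinianRing_tsze k (Fin n → k)
    res := TrivSqZeroExt.fstHom Λ k (Fin n → k)
    res_surjective := fun a => ⟨TrivSqZeroExt.inl a, rfl⟩ }

variable {Λ k}

/-- Forget the first coordinate. -/
noncomputable def tailPr (n : ℕ) : artW Λ k (n + 1) ⟶ artW Λ k n :=
  ⟨(TrivSqZeroExt.map (LinearMap.funLeft k k (Fin.succ : Fin n → Fin (n + 1)))).restrictScalars Λ,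
    AlgHom.ext fun z => TrivSqZeroExt.fst_map _ z⟩

/-- The first coordinate. -/
noncomputable def headPr (n : ℕ) : artW Λ k (n + 1) ⟶ dual Λ k :=
  ⟨(TrivSqZeroExt.map (LinearMap.proj (R := k) (φ := fun _ : Fin (n + 1) => k) 0)).restrictScalars Λ,
    AlgHom.ext fun z => TrivSqZeroExt.fst_map _ z⟩

theorem isFibreProd (n : ℕ) :
    IsFibreProd (tailPr (Λ := Λ) (k := k) n) (headPr n) (toBase (artW Λ k n)) (toBase (dual Λ k)) where
  w := by rw [eq_toBase (tailPr n ≫ toBase _), eq_toBase (headPr n ≫ toBase _)]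
  inj b₁ b₂ h₁ h₂ := by
    have e₁ : TrivSqZeroExt.fst b₁ = TrivSqZeroExt.fst b₂ :=
      (TrivSqZeroExt.fst_map _ b₁).symm.trans ((congrArg TrivSqZeroExt.fst h₁).trans (TrivSqZeroExt.fst_map _ b₂))
    have e₂ := (TrivSqZeroExt.snd_map _ b₁).symm.trans
      ((congrArg TrivSqZeroExt.snd h₁).trans (TrivSqZeroExt.snd_map _ b₂))
    have e₃ := (TrivSqZeroExt.snd_map _ b₁).symm.trans
      ((congrArg TrivSqZeroExt.snd h₂).trans (TrivSqZeroExt.snd_map _ b₂))
    refine TrivSqZeroExt.ext e₁ (funext fun i => Fin.cases ?_ (fun j => ?_) i)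
    · exact e₃
    · exact congrFun e₂ j
  surj a a' h := by
    let z : TrivSqZeroExt k (Fin (n + 1) → k) :=
      TrivSqZeroExt.inl (TrivSqZeroExt.fst a) + TrivSqZeroExt.inr (Fin.cons (TrivSqZeroExt.snd a') (TrivSqZeroExt.snd a))
    refine ⟨z, TrivSqZeroExt.ext ?_ ?_, TrivSqZeroExt.ext ?_ ?_⟩
    · show TrivSqZeroExt.fst (TrivSqZeroExt.map _ z) = _
      simp [z]
    · show TrivSqZeroExt.snd (TrivSqZeroExt.map _ z) = _
      simp [z]
      funext j
      simp [LinearMap.funLeft]
    · show TrivSqZeroExt.fst (TrivSqZeroExt.map _ z) = _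
      simp [z]
      exact h
    · show TrivSqZeroExt.snd (TrivSqZeroExt.map _ z) = _
      simp [z]

section Classes

variable {P B₀ : Type u} [CommRing P] [Algebra k P] [CommRing B₀] [Algebra k B₀] [Algebra P B₀]
  [IsScalarTower k P B₀] (hsurj : Function.Surjective (algebraMap P B₀))

/-- The class over `k[W]`. -/
noncomputable def clsW (n : ℕ)
    (h : RingHom.ker (algebraMap P B₀) →ₗ[P] DefT1.Val (k := k) B₀ (Fin n → k)) :
    (defFunctor (Λ := Λ) (Spec (CommRingCat.of B₀)) (AffDef.str₀ k B₀)).obj (artW Λ k n) :=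
  DefT1.cls hsurj (artW Λ k n) (RingEquiv.refl (TrivSqZeroExt k (Fin n → k))) (fun _ => rfl) h

variable {σ : Type u} [Algebra (MvPolynomial σ k) B₀] [IsScalarTower k (MvPolynomial σ k) B₀]
  (hs : Function.Surjective (algebraMap (MvPolynomial σ k) B₀))

theorem exists_clsW : ∀ (n : ℕ)
    (ξ : (defFunctor (Λ := Λ) (Spec (CommRingCat.of B₀)) (AffDef.str₀ k B₀)).obj (artW Λ k n)),
    ∃ h, clsW hs n h = ξ := by
  intro n
  induction n with
  | zero =>
    intro ξ
    refine ⟨0, ?_⟩
    let inc : base Λ k ⟶ artW Λ k 0 :=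
      ⟨IsScalarTower.toAlgHom Λ k (TrivSqZeroExt k (Fin 0 → k)), AlgHom.ext fun c => rfl⟩
    have hid : toBase (artW Λ k 0) ≫ inc = 𝟙 _ := ArtFunLib.hom_ext_apply fun a =>
      TrivSqZeroExt.ext (TrivSqZeroExt.fst_inl _ _) (Subsingleton.elim _ _)
    obtain ⟨_, hsub⟩ := DefGlue.h0_defFunctor (Λ := Λ) (X := Spec (CommRingCat.of B₀)) (x := AffDef.str₀ k B₀)
    have h1 := ArtFunLib.map_map (F := defFunctor (Λ := Λ) (Spec (CommRingCat.of B₀)) (AffDef.str₀ k B₀))
      (toBase (artW Λ k 0)) inc
    have h2 : ∀ z, (defFunctor (Λ := Λ) (Spec (CommRingCat.of B₀)) (AffDef.str₀ k B₀)).map inc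
        ((defFunctor _ _).map (toBase (artW Λ k 0)) z) = z := fun z => by
      rw [ArtFunLib.map_map, hid, ArtFunLib.map_id']
    rw [← h2 (clsW hs 0 0), ← h2 ξ]
    congr 1
    exact hsub.elim _ _
  | succ n ih =>
    intro ξ
    let F := defFunctor (Λ := Λ) (Spec (CommRingCat.of B₀)) (AffDef.str₀ k B₀)
    obtain ⟨h₁, hh₁⟩ := ih (F.map (tailPr n) ξ)
    obtain ⟨h₂, hh₂⟩ := DefT1.exists_cls₁ (Λ := Λ) hs (F.map (headPr n) ξ)
    let ext : (Fin n → k) →ₗ[k] (Fin (n + 1) → k) :=
      { toFun := fun v => Fin.cons 0 v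
        map_add' := fun v w => funext fun i => Fin.cases (by simp) (fun j => by simp) i
        map_smul' := fun c v => funext fun i => Fin.cases (by simp) (fun j => by simp) i }
    let hd : k →ₗ[k] (Fin (n + 1) → k) := LinearMap.single k (fun _ : Fin (n + 1) => k) 0
    let H : RingHom.ker (algebraMap (MvPolynomial σ k) B₀) →ₗ[MvPolynomial σ k]
        DefT1.Val (k := k) B₀ (Fin (n + 1) → k) :=
      (AlgebraTensorModule.lTensor (MvPolynomial σ k) B₀ ext).comp h₁ +
        (AlgebraTensorModule.lTensor (MvPolynomial σ k) B₀ hd).comp h₂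
    refine ⟨H, (DefGlue.heps_defFunctor _ _ (isFibreProd n)).1 ?_⟩
    rw [ArtFunLib.cmp_eq_iff]
    constructor
    · show F.map (tailPr n) (clsW hs (n + 1) H) = F.map (tailPr n) ξ
      rw [← hh₁]
      refine (DefT1.map_cls hs (A := artW Λ k (n + 1)) (A' := artW Λ k n)
        (RingEquiv.refl (TrivSqZeroExt k (Fin (n + 1) → k))) (fun _ => rfl) (RingEquiv.refl (TrivSqZeroExt k (Fin n → k))) (fun _ => rfl)
        (tailPr n) (LinearMap.funLeft k k (Fin.succ : Fin n → Fin (n + 1)))
        (fun a => TrivSqZeroExt.snd_map _ a) H).trans (congrArg (clsW hs n) (LinearMap.ext fun f => ?_))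
      have q1 : (LinearMap.funLeft k k (Fin.succ : Fin n → Fin (n + 1))) ∘ₗ ext = LinearMap.id :=
        LinearMap.ext fun v => funext fun j => by simp [ext, LinearMap.funLeft]
      have q2 : (LinearMap.funLeft k k (Fin.succ : Fin n → Fin (n + 1))) ∘ₗ hd = 0 :=
        LinearMap.ext fun v => funext fun j => by simp [hd, LinearMap.funLeft, Fin.succ_ne_zero]
      simp [H, ← LinearMap.lTensor_comp_apply, q1, q2]
    · show F.map (headPr n) (clsW hs (n + 1) H) = F.map (headPr n) ξ
      rw [← hh₂]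
      refine (DefT1.map_cls hs (A := artW Λ k (n + 1)) (A' := dual Λ k)
        (RingEquiv.refl (TrivSqZeroExt k (Fin (n + 1) → k))) (fun _ => rfl) (RingEquiv.refl (DualNumber k)) (fun _ => rfl)
        (headPr n) (LinearMap.proj (R := k) (φ := fun _ : Fin (n + 1) => k) 0)
        (fun a => TrivSqZeroExt.snd_map _ a) H).trans (congrArg (DefT1.cls₁ hs) (LinearMap.ext fun f => ?_))
      have q1 : (LinearMap.proj (R := k) (φ := fun _ : Fin (n + 1) => k) 0) ∘ₗ ext = 0 :=
        LinearMap.ext fun v => by simp [ext]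
      have q2 : (LinearMap.proj (R := k) (φ := fun _ : Fin (n + 1) => k) 0) ∘ₗ hd = LinearMap.id :=
        LinearMap.ext fun v => by simp [hd]
      simp [H, ← LinearMap.lTensor_comp_apply, q1, q2]

end Classes

section HomToT1

variable {B : Type u} [CommRing B] [Algebra k B] {ι σ : Type u} (Q : Algebra.Presentation k B ι σ)
  (M : Type u) [AddCommGroup M] [Module B M]

theorem homToT1_surjective : Function.Surjective (homToT1 Q M) := by
  intro t
  obtain ⟨c, rfl⟩ := Submodule.Quotient.mk_surjective _ t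
  obtain ⟨g, hg⟩ := CotTLib.exists_comp_toCot (φ := (c : L1 Q →ₗ[B] M)) c.2
  exact ⟨g, congrArg Submodule.Quotient.mk (Subtype.ext hg)⟩

theorem homToT1_eq_iff (g g' : Q.toExtension.Cotangent →ₗ[B] M) :
    homToT1 Q M g = homToT1 Q M g' ↔ ∃ ψ : L0 Q →ₗ[B] M, ψ ∘ₗ Q.toExtension.cotangentComplex = g - g' := by
  rw [← sub_eq_zero, ← map_sub]
  constructor
  · intro h
    obtain ⟨ψ, hψ⟩ := (Submodule.Quotient.mk_eq_zero _).1 h
    exact ⟨ψ, CotTLib.comp_toCot_injective (hψ : _)⟩
  · rintro ⟨ψ, hψ⟩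
    refine (Submodule.Quotient.mk_eq_zero _).2 ⟨ψ, ?_⟩
    show ψ ∘ₗ Q.toExtension.cotangentComplex ∘ₗ toCot Q = (g - g') ∘ₗ toCot Q
    rw [← LinearMap.comp_assoc, hψ]

end HomToT1

variable {B : Type u} [CommRing B] [Algebra k B] {ι σ : Type u}

/-- The classes of deformations over `k[W]` are `T¹(B ⊗ W)`. -/
theorem nonempty_equiv_T1 (Q : Algebra.Presentation k B ι σ) (n : ℕ) :
    Nonempty ((defFunctor (Λ := Λ) (Spec (CommRingCat.of B)) (AffDef.str₀ k B)).obj (artW Λ k n) ≃
      T1 Q (B ⊗[k] (Fin n → k))) := by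
  letI : Algebra (MvPolynomial ι k) B := inferInstanceAs (Algebra Q.toExtension.Ring B)
  haveI : IsScalarTower k (MvPolynomial ι k) B := inferInstanceAs (IsScalarTower k Q.toExtension.Ring B)
  have hsurj : Function.Surjective (algebraMap (MvPolynomial ι k) B) := Q.toExtension.algebraMap_surjective
  let M := B ⊗[k] (Fin n → k)
  let hom : (Q.toExtension.Cotangent →ₗ[B] M) →
      (RingHom.ker (algebraMap (MvPolynomial ι k) B) →ₗ[MvPolynomial ι k] M) := fun g =>
    { toFun := fun f => g (Algebra.Extension.Cotangent.mk (P := Q.toExtension) f)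
      map_add' := fun f f' => by
        rw [← map_add]
        exact congrArg g (map_add (Algebra.Extension.Cotangent.mk (P := Q.toExtension)) f f')
      map_smul' := fun p f => by
        refine (congrArg g (map_smul (Algebra.Extension.Cotangent.mk (P := Q.toExtension)) (p : Q.toExtension.Ring) f)).trans ?_
        refine (congrArg g (algebraMap_smul B (p : Q.toExtension.Ring) _).symm).trans ?_
        rw [map_smul]
        exact algebraMap_smul B (p : MvPolynomial ι k) _ }
  let γ := fun g : Q.toExtension.Cotangent →ₗ[B] M => clsW (Λ := Λ) hsurj n (hom g)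
  refine DefT1T1.nonempty_equiv_of_fibres γ (homToT1 Q M) (fun ξ => ?_) (fun t => ?_) (fun g g' => ?_)
  · obtain ⟨h, rfl⟩ := exists_clsW (Λ := Λ) hsurj n ξ
    let h' : Q.toExtension.ker →ₗ[Q.toExtension.Ring] M :=
      { toFun := fun f => h f
        map_add' := fun f f' => h.map_add (f : RingHom.ker (algebraMap (MvPolynomial ι k) B)) f'
        map_smul' := fun p f => h.map_smul (p : MvPolynomial ι k) f }
    have hker : LinearMap.ker (Algebra.Extension.Cotangent.mk (P := Q.toExtension)) ≤ LinearMap.ker h' := by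
      intro x hx
      rw [LinearMap.mem_ker, Algebra.Extension.Cotangent.mk_eq_zero_iff, pow_two] at hx
      suffices ∀ z (hz : z ∈ Q.toExtension.ker * Q.toExtension.ker), h' ⟨z, Ideal.mul_le_left hz⟩ = 0 from
        LinearMap.mem_ker.2 (this x.1 hx)
      intro z hz
      induction hz using Submodule.mul_induction_on' with
      | mem_mul_mem a ha b hb =>
        have e : (⟨a * b, Ideal.mul_mem_left _ a hb⟩ : Q.toExtension.ker) = a • ⟨b, hb⟩ := rfl
        rw [e, map_smul, ← algebraMap_smul B a, RingHom.mem_ker.1 ha, zero_smul]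
      | add x hx y hy ihx ihy =>
        have e : (⟨x + y, Ideal.add_mem _ (Ideal.mul_le_left hx) (Ideal.mul_le_left hy)⟩ : Q.toExtension.ker) =
          ⟨x, Ideal.mul_le_left hx⟩ + ⟨y, Ideal.mul_le_left hy⟩ := rfl
        rw [e, map_add, ihx, ihy, add_zero]
    have hmk := Algebra.Extension.Cotangent.mk_surjective (P := Q.toExtension)
    let g₀ : Q.toExtension.Cotangent →ₗ[Q.toExtension.Ring] M :=
      (Submodule.liftQ _ h' hker).comp
        (LinearMap.quotKerEquivOfSurjective _ hmk).symm.toLinearMap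
    refine ⟨g₀.extendScalarsOfSurjective Q.toExtension.algebraMap_surjective, ?_⟩
    show clsW hsurj n _ = _
    congr 1
    refine LinearMap.ext fun f => ?_
    show Submodule.liftQ _ h' hker ((LinearMap.quotKerEquivOfSurjective _ hmk).symm _) = h f
    rw [show (LinearMap.quotKerEquivOfSurjective (Algebra.Extension.Cotangent.mk (P := Q.toExtension)) hmk).symm
      (Algebra.Extension.Cotangent.mk f) = Submodule.Quotient.mk f from (LinearEquiv.symm_apply_eq _).2 rfl,
      Submodule.liftQ_apply]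
    rfl
  · exact homToT1_surjective Q M t
  · rw [homToT1_eq_iff Q M g g']
    constructor
    · intro he
      obtain ⟨D, hD⟩ := DefT1.exists_derivation_of_cls_eq hsurj (artW Λ k n)
        (RingEquiv.refl (TrivSqZeroExt k (Fin n → k))) (fun _ => rfl) _ _ he.symm
      let D' : Derivation k Q.toExtension.Ring M := D
      refine ⟨D'.liftKaehlerDifferential.liftBaseChange B, LinearMap.ext fun z => ?_⟩
      obtain ⟨f, rfl⟩ := Algebra.Extension.Cotangent.mk_surjective (P := Q.toExtension) z
      rw [LinearMap.comp_apply, Algebra.Extension.cotangentComplex_mk, LinearMap.liftBaseChange_tmul, one_smul,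
        Derivation.liftKaehlerDifferential_comp_D, LinearMap.sub_apply]
      have := hD f
      change g _ = g' _ + D' f at this
      exact eq_sub_of_add_eq' this.symm
    · rintro ⟨ψ, hψ⟩
      let D' : Derivation k Q.toExtension.Ring M :=
        (((ψ.restrictScalars Q.toExtension.Ring).comp (TensorProduct.mk Q.toExtension.Ring B _ 1))).compDer
          (KaehlerDifferential.D k Q.toExtension.Ring)
      refine DefT1.cls_twist hsurj (artW Λ k n) (RingEquiv.refl (TrivSqZeroExt k (Fin n → k))) (fun _ => rfl)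
        (D' : Derivation k (MvPolynomial ι k) M) _ _ fun f => ?_
      show g _ = g' _ + D' (f : MvPolynomial ι k)
      have := LinearMap.congr_fun hψ (Algebra.Extension.Cotangent.mk (P := Q.toExtension) f)
      rw [LinearMap.comp_apply, Algebra.Extension.cotangentComplex_mk, LinearMap.sub_apply] at this
      exact eq_add_of_sub_eq' this.symm

end Groth.Agent.SemiExt29
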