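import Groth.Agent.SemiExt29.TangentW
import Groth.Agent.ArtFunLib.ObsHR

/-!
# Extensions along a semismall extension and deformations over `k[W]`
-/

set_option autoImplicit false
set_option backward.isDefEq.respectTransparency.types false
set_option linter.style.haveILetI false
universe u

open AlgebraicGeometry CategoryTheory CategoryTheory.Limits ArtFun ArtFun.Art Groth.Agent.Et18 DefGlue
open scoped TensorProduct

noncomputable section

namespace Groth.Agent.SemiExt29

variable {k : Type u} [Field k] {C' C : Art k k} {p : C' ⟶ C}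

/-- A basis of the kernel. -/
theorem exists_ker_equiv (p : C' ⟶ C) :
    ∃ n, Nonempty ((Fin n → k) ≃ₗ[k] ↥(RingHom.ker p.toAlgHom)) := by
  haveI := (ArtFunLib.finiteLength C').1
  let K : Submodule k C' := LinearMap.ker p.toAlgHom.toLinearMap
  let eK : K ≃ₗ[k] ↥(RingHom.ker p.toAlgHom) :=
    { toFun := fun a => ⟨a.1, a.2⟩
      invFun := fun a => ⟨a.1, a.2⟩
      left_inv := fun _ => rfl
      right_inv := fun _ => rfl
      map_add' := fun _ _ => rfl
      map_smul' := fun c a => Subtype.ext rfl }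
  exact ⟨Module.finrank k K, ⟨(Module.finBasis k K).equivFun.symm.trans eK⟩⟩

section Twist

variable (hp : IsSemismallExt p) {n : ℕ} (e : (Fin n → k) ≃ₗ[k] ↥(RingHom.ker p.toAlgHom))
  {P : Art k k} {q₁ : P ⟶ C'} {q₂ : P ⟶ artW k k n}
  (hP : IsFibreProd q₁ q₂ (toBase C') (toBase (artW k k n)))

include hp hP e in
/-- The second projection of `C' ×_k k[W] ≅ C' ×_C C'`. -/
theorem exists_twist : ∃ r : P ⟶ C', IsFibreProd q₁ r p p := by
  let w : P → (Fin n → k) := fun a => TrivSqZeroExt.snd (show TrivSqZeroExt k (Fin n → k) from q₂ a)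
  let c : P → C' := fun a => (e (w a) : C')
  have hfst : ∀ a, TrivSqZeroExt.fst (show TrivSqZeroExt k (Fin n → k) from q₂ a) = P.res a := fun a =>
    Art.res_app q₂ a
  have hc : ∀ a, p (c a) = 0 := fun a => RingHom.mem_ker.1 (e (w a)).2
  have hc0 : ∀ a, C'.res (c a) = 0 := fun a => by
    rw [← Art.res_app p (c a), hc, map_zero]
  have hadd : ∀ a b, c (a + b) = c a + c b := fun a b => by
    have : w (a + b) = w a + w b := by
      simp only [w]
      rw [map_add]; rfl
    simp only [c, this, map_add]; rfl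
  have hsmul : ∀ (s : k) a, ((e (s • w a)) : C') = s • c a := fun s a => by
    rw [map_smul]; rfl
  have hmul : ∀ a b, c (a * b) = P.res a • c b + P.res b • c a := fun a b => by
    have : w (a * b) = P.res a • w b + P.res b • w a := by
      simp only [w]
      rw [map_mul]
      refine (TrivSqZeroExt.snd_mul _ _).trans ?_
      rw [hfst, hfst, op_smul_eq_smul]
    simp only [c, this, map_add]
    rw [← hsmul, ← hsmul]; rfl
  have halg : ∀ s : k, c (algebraMap k P s) = 0 := fun s => by
    have : w (algebraMap k P s) = 0 := by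
      simp only [w]
      rw [show q₂ (algebraMap k P s) = algebraMap k (artW k k n) s from q₂.toAlgHom.commutes s]
      exact TrivSqZeroExt.snd_inl _ _
    simp only [c, this, map_zero]; rfl
  let rAlg : P →ₐ[k] C' :=
    { toFun := fun a => q₁ a + c a
      map_one' := by rw [← map_one (algebraMap k P), halg, add_zero, map_one, map_one]
      map_mul' := fun a b => by
        have h1 : c a * c b = 0 := by
          rw [ArtFunLib.smul_eq_res_smul hp _ (hc b), hc0, zero_smul]
        have h2 : q₁ a * c b = P.res a • c b := by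
          rw [ArtFunLib.smul_eq_res_smul hp _ (hc b), Art.res_app]
        have h3 : q₁ b * c a = P.res b • c a := by
          rw [ArtFunLib.smul_eq_res_smul hp _ (hc a), Art.res_app]
        rw [hmul, map_mul, add_mul, mul_add, mul_add, h1, h2, mul_comm (c a) (q₁ b), h3]
        abel
      map_zero' := by rw [← map_zero (algebraMap k P), halg, add_zero, map_zero, map_zero]
      map_add' := fun a b => by rw [hadd, map_add]; abel
      commutes' := fun s => by rw [halg, add_zero]; exact q₁.toAlgHom.commutes s }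
  let r : P ⟶ C' := ⟨rAlg, AlgHom.ext fun a => by
    show C'.res (q₁ a + c a) = P.res a
    rw [map_add, hc0, add_zero, Art.res_app]⟩
  have hr : ∀ a, r a = q₁ a + c a := fun _ => rfl
  refine ⟨r, ArtFunLib.hom_ext_apply fun a => ?_, fun a b h1 h2 => hP.inj a b h1 ?_, fun a a' h => ?_⟩
  · rw [ArtFunLib.comp_apply', ArtFunLib.comp_apply', hr, map_add, hc, add_zero]
  · rw [hr, hr, h1] at h2
    have hw : w a = w b := e.injective (Subtype.ext (add_left_cancel h2))
    exact TrivSqZeroExt.ext ((hfst a).trans (((Art.res_app q₁ a).symm.trans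
      (congrArg C'.res h1)).trans ((Art.res_app q₁ b).trans (hfst b).symm))) hw
  · have hk : a' - a ∈ RingHom.ker p.toAlgHom := by
      rw [RingHom.mem_ker, map_sub, sub_eq_zero]; exact h.symm
    let z : TrivSqZeroExt k (Fin n → k) := TrivSqZeroExt.inl (C'.res a) + TrivSqZeroExt.inr (e.symm ⟨_, hk⟩)
    obtain ⟨b, hb, hb'⟩ := hP.surj a (show (artW k k n) from z) (by
      show C'.res a = TrivSqZeroExt.fst z
      simp [z])
    refine ⟨b, hb, ?_⟩
    rw [hr, hb]
    have : w b = e.symm ⟨_, hk⟩ := by simp [w, hb', z]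
    simp [c, this]

end Twist

section Classes

variable {X : Scheme.{u}} {x : X ⟶ specPt k} {𝒳 : DefSch X x C}

/-- Extensions of `𝒳` along `p`, up to equivalence. -/
abbrev Ext (p : C' ⟶ C) (𝒳 : DefSch X x C) : Type (u + 1) :=
  Quot (fun a b : (Σ 𝒳' : DefSch X x C', (𝒳'.baseChange p).Iso 𝒳) =>
    ∃ ψ : a.1.Iso b.1, ((ψ.baseChange p).trans b.2).iso = a.2.iso)

/-- The morphism of an extension. -/
def toMor (a : Σ 𝒳' : DefSch X x C', (𝒳'.baseChange p).Iso 𝒳) : Mor p 𝒳 a.1 :=
  (Mor.fst a.1 p).isoComp a.2.symm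

theorem toMor_hom (a : Σ 𝒳' : DefSch X x C', (𝒳'.baseChange p).Iso 𝒳) :
    (toMor a).hom = a.2.iso.inv ≫ pullback.fst a.1.f (specMap p) := rfl

theorem rel_iff (a b : Σ 𝒳' : DefSch X x C', (𝒳'.baseChange p).Iso 𝒳) (ψ : a.1.Iso b.1) :
    ((ψ.baseChange p).trans b.2).iso = a.2.iso ↔ (toMor a).hom ≫ ψ.iso.hom = (toMor b).hom := by
  constructor
  · intro h
    rw [toMor_hom, toMor_hom, ← h]
    show (b.2.iso.inv ≫ (ψ.baseChange p).iso.inv) ≫ pullback.fst _ _ ≫ ψ.iso.hom = _
    have : (ψ.baseChange p).iso.hom ≫ pullback.fst b.1.f (specMap p) =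
        pullback.fst a.1.f (specMap p) ≫ ψ.iso.hom := DefSch.pullMap_fst ψ.iso.hom ψ.hom_f p
    rw [← this, Category.assoc, Iso.inv_hom_id_assoc]
  · intro h
    apply Iso.ext
    show (ψ.baseChange p).iso.hom ≫ b.2.iso.hom = a.2.iso.hom
    rw [← Iso.eq_comp_inv]
    apply pullback.hom_ext
    · rw [show (ψ.baseChange p).iso.hom ≫ pullback.fst b.1.f (specMap p) =
        pullback.fst a.1.f (specMap p) ≫ ψ.iso.hom from DefSch.pullMap_fst ψ.iso.hom ψ.hom_f p, Category.assoc,
        ← toMor_hom, ← h, toMor_hom, Category.assoc, Iso.hom_inv_id_assoc]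
    · rw [show (ψ.baseChange p).iso.hom ≫ pullback.snd b.1.f (specMap p) =
        pullback.snd a.1.f (specMap p) from DefSch.pullMap_snd ψ.iso.hom ψ.hom_f p, Category.assoc]
      show (a.1.baseChange p).f = a.2.iso.hom ≫ b.2.iso.inv ≫ (b.1.baseChange p).f
      rw [show b.2.iso.inv ≫ (b.1.baseChange p).f = 𝒳.f from b.2.symm.hom_f, a.2.hom_f]

variable (x) in
/-- Classes of extensions are the deformations over `k[W]`, as soon as one exists. -/
theorem exists_equiv (hp : IsSemismallExt p) (a₀ : Σ 𝒳' : DefSch X x C', (𝒳'.baseChange p).Iso 𝒳) :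
    ∃ n, Nonempty ((Fin n → k) ≃ₗ[k] ↥(RingHom.ker p.toAlgHom)) ∧
      Nonempty (Ext p 𝒳 ≃ (defFunctor (Λ := k) X x).obj (artW k k n)) := by
  obtain ⟨n, ⟨e⟩⟩ := exists_ker_equiv p
  refine ⟨n, ⟨e⟩, ?_⟩
  have hW : Function.Surjective (toBase (artW k k n)) := (artW k k n).res_surjective
  obtain ⟨P, q₁, q₂, hP⟩ := ArtFunLib.exists_fibreProd (toBase C') (toBase (artW k k n)) hW
  obtain ⟨r, hr⟩ := exists_twist hp e hP
  let F := defFunctor (Λ := k) X x
  let m₀ := toMor a₀
  have hglue := fun (a : Σ 𝒳' : DefSch X x C', (𝒳'.baseChange p).Iso 𝒳) =>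
    exists_glue hr hp.1 m₀ (toMor a)
  choose W n' n'' hn hu using hglue
  let Φ : (Σ 𝒳' : DefSch X x C', (𝒳'.baseChange p).Iso 𝒳) → F.obj (artW k k n) :=
    fun a => F.map q₂ (W a).cl
  have key : ∀ a (V : DefSch X x P) (o' : Mor q₁ a₀.1 V) (o'' : Mor r a.1 V),
      m₀.hom ≫ o'.hom = (toMor a).hom ≫ o''.hom → Φ a = F.map q₂ V.cl := by
    intro a V o' o'' ho
    obtain ⟨i, -⟩ := hu a V o' o'' ho
    exact congrArg (F.map q₂) (Quotient.sound ⟨i⟩)
  have hresp : ∀ a b : (Σ 𝒳' : DefSch X x C', (𝒳'.baseChange p).Iso 𝒳),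
      (∃ ψ : a.1.Iso b.1, ((ψ.baseChange p).trans b.2).iso = a.2.iso) → Φ a = Φ b := by
    rintro a b ⟨ψ, hψ⟩
    rw [rel_iff] at hψ
    refine (key b (W a) (n' a) ((n'' a).isoComp ψ.symm) ?_).symm
    show m₀.hom ≫ (n' a).hom = (toMor b).hom ≫ ψ.iso.inv ≫ (n'' a).hom
    rw [← hψ, Category.assoc, Iso.hom_inv_id_assoc, hn a]
  refine ⟨Equiv.ofBijective (Quot.lift Φ hresp) ⟨?_, ?_⟩⟩
  · intro a b
    induction a using Quot.inductionOn with
    | h a =>
    induction b using Quot.inductionOn with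
    | h b =>
    intro (hab : Φ a = Φ b)
    obtain ⟨t⟩ := nonempty_mor (η := (W a).baseChange q₂) (ξ := W b) hab.symm
    obtain ⟨V, v', v'', hv, hV⟩ := exists_glue hP hW (closedMor a₀.1) (closedMor ((W a).baseChange q₂))
    obtain ⟨ea, ha, -⟩ := hV (W a) (n' a) (Mor.fst (W a) q₂)
      ((n' a).i_hom.trans (Mor.fst (W a) q₂).i_hom.symm)
    obtain ⟨eb, hb, -⟩ := hV (W b) (n' b) t ((n' b).i_hom.trans t.i_hom.symm)
    let g : (W a).Iso (W b) := ea.symm.trans eb
    have hg : (n' a).hom ≫ g.iso.hom = (n' b).hom := by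
      show (n' a).hom ≫ ea.iso.inv ≫ eb.iso.hom = _
      rw [← ha, Category.assoc, Iso.hom_inv_id_assoc, hb]
    obtain ⟨ψ, hψ⟩ := Mor.exists_iso ((n'' a).compIso g) (n'' b)
    refine Quot.sound ⟨ψ, (rel_iff a b ψ).2 ?_⟩
    apply (n'' b).isPullback.hom_ext
    · rw [Category.assoc, hψ]
      show (toMor a).hom ≫ (n'' a).hom ≫ g.iso.hom = _
      rw [← Category.assoc, ← hn a, Category.assoc, hg, hn b]
    · rw [Category.assoc, ψ.hom_f, (toMor a).w, (toMor b).w]
  · intro z
    induction z using Quotient.inductionOn with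
    | h η =>
    obtain ⟨V, o', o'', -, -⟩ := exists_glue hP hW (closedMor a₀.1) (closedMor η)
    have hw : (m₀.hom ≫ o'.hom) ≫ V.f = (𝒳.f ≫ specMap p) ≫ specMap r := by
      rw [Category.assoc, o'.w, ← Category.assoc, m₀.w, Category.assoc, Category.assoc]
      exact congrArg (𝒳.f ≫ ·) ((specMap_comp _ _).symm.trans ((congrArg specMap hr.w).trans (specMap_comp _ _)))
    let m : Mor p 𝒳 (V.baseChange r) :=
      { hom := pullback.lift (m₀.hom ≫ o'.hom) (𝒳.f ≫ specMap p) hw
        w := pullback.lift_snd _ _ _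
        i_hom := by
          apply pullback.hom_ext
          · rw [Category.assoc, pullback.lift_fst, ← Category.assoc, m₀.i_hom, o'.i_hom,
              DefSch.baseChange_i_fst]
          · rw [Category.assoc, pullback.lift_snd, ← Category.assoc, DefSch.i_f, Category.assoc, specRes_comp]
            exact (DefSch.baseChange_i_f V r).symm }
    let a : Σ 𝒳' : DefSch X x C', (𝒳'.baseChange p).Iso 𝒳 := ⟨V.baseChange r, m.toBaseChange.symm⟩
    have ha : (toMor a).hom = m.hom := by
      rw [toMor_hom]; exact m.toBaseChange_fst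
    refine ⟨Quot.mk _ a, ?_⟩
    show Φ a = η.cl
    rw [key a V o' (Mor.fst V r) (by rw [ha]; exact (pullback.lift_fst _ _ _).symm)]
    exact map_cl o''

end Classes

/-- `T¹` along an isomorphism of modules. -/
def T1congr {B : Type u} [CommRing B] [Algebra k B] {ι σ : Type u} (Q : Algebra.Presentation k B ι σ)
    {M N : Type u} [AddCommGroup M] [Module B M] [AddCommGroup N] [Module B N] (g : M ≃ₗ[B] N) :
    CotT.T1 Q M ≃ CotT.T1 Q N where
  toFun := CotT.T1map Q g.toLinearMap
  invFun := CotT.T1map Q g.symm.toLinearMap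
  left_inv t := by
    obtain ⟨c, rfl⟩ := Submodule.Quotient.mk_surjective _ t
    exact congrArg Submodule.Quotient.mk (Subtype.ext (LinearMap.ext fun z => g.symm_apply_apply _))
  right_inv t := by
    obtain ⟨c, rfl⟩ := Submodule.Quotient.mk_surjective _ t
    exact congrArg Submodule.Quotient.mk (Subtype.ext (LinearMap.ext fun z => g.apply_symm_apply _))

end Groth.Agent.SemiExt29
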