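import Groth.Agent.SemiExt29.Torsor
import Groth.Agent.AffObs29.Theory
import Groth.Agent.CotTLib.Exal

/-!
# Affine schemes without first order deformations are rigid
-/

set_option autoImplicit false
set_option backward.isDefEq.respectTransparency.types false
set_option backward.isDefEq.respectTransparency false
set_option linter.style.haveILetI false
universe u

open AlgebraicGeometry CategoryTheory ArtFun ArtFun.Art Groth.Agent.Et18 CotT
open scoped TensorProduct

noncomputable section

namespace Groth.Agent.SemiExt29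

variable {k : Type u} [Field k] {B : Type u} [CommRing B] [Algebra k B] {ι σ : Type u}
  (Q : Algebra.Presentation k B ι σ)

theorem T1_subsingleton_of_coord (h : Subsingleton (T1 Q B)) {M : Type u} [AddCommGroup M] [Module B M] {n : ℕ}
    (ip : Fin n → (B →ₗ[B] M)) (pr : Fin n → (M →ₗ[B] B)) (hid : ∀ x, ∑ i, ip i (pr i x) = x) :
    Subsingleton (T1 Q M) := by
  refine subsingleton_of_forall_eq 0 fun t => ?_
  obtain ⟨c, rfl⟩ := Submodule.Quotient.mk_surjective _ t
  have hc : ∀ i, ∃ ψ : L0 Q →ₗ[B] B, ψ ∘ₗ d1 Q = pr i ∘ₗ (c : L1 Q →ₗ[B] M) := fun i =>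
    (Submodule.Quotient.mk_eq_zero _).1 (@Subsingleton.elim _ h (T1map Q (pr i) (Submodule.Quotient.mk c)) 0)
  choose ψ hψ using hc
  refine (Submodule.Quotient.mk_eq_zero _).2 ⟨∑ i, ip i ∘ₗ ψ i, ?_⟩
  refine LinearMap.ext fun z => ?_
  show (∑ i, ip i ∘ₗ ψ i) (d1 Q z) = (c : L1 Q →ₗ[B] M) z
  rw [LinearMap.sum_apply]
  refine Eq.trans (Finset.sum_congr rfl fun i _ => ?_) (hid _)
  exact congrArg _ (LinearMap.congr_fun (hψ i) z)

theorem T1_tensor_subsingleton (h : Subsingleton (T1 Q B)) (J : Type u) [AddCommGroup J] [Module k J]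
    [Module.Finite k J] : Subsingleton (T1 Q (B ⊗[k] J)) := by
  classical
  let e := Module.finBasis k J
  let pr : Fin (Module.finrank k J) → (B ⊗[k] J →ₗ[B] B) := fun i =>
    (TensorProduct.AlgebraTensorModule.rid k B B).toLinearMap ∘ₗ
      TensorProduct.AlgebraTensorModule.lTensor B B (e.coord i)
  refine T1_subsingleton_of_coord Q h (fun i => AffObs29.mkr (k := k) (B := B) (e i)) pr fun x => ?_
  induction x using TensorProduct.induction_on with
  | zero => simp
  | add x y hx hy => simp only [map_add, Finset.sum_add_distrib, hx, hy]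
  | tmul b j =>
    conv_rhs => rw [← e.sum_repr j, TensorProduct.tmul_sum]
    refine Finset.sum_congr rfl fun i _ => ?_
    rw [AffObs29.mkr_apply, show pr i (b ⊗ₜ j) = e.repr j i • b by simp [pr], TensorProduct.smul_tmul]

open scoped TrivSqZeroExt in
attribute [local instance] Exal.opModule Exal.isCentralScalar_opModule in
theorem cl_eq_zero {L : Type u} [AddCommGroup L] [Module B L] (E : Exal.Ext k B L) (s : B →ₐ[k] E.E)
    (hs : ∀ b, E.proj (s b) = b) : E.cl = (0 : Exal.Exalcom k B L) := by
  refine (Quotient.sound ?_).symm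
  have hmul : ∀ (b : B) (z : L), s b * E.incl z = E.incl (b • z) := fun b z => by
    rw [E.isExtension.mul_incl, hs]
  have hincl : ∀ z w : L, E.incl z * E.incl w = 0 := fun z w => CotTLib.incl_mul_incl E z w
  let f : (Exal.Ext.trivial k B L).E →ₐ[k] E.E :=
    { toFun := fun x => s (TrivSqZeroExt.fst (show TrivSqZeroExt B L from x)) +
        E.incl (TrivSqZeroExt.snd (show TrivSqZeroExt B L from x))
      map_one' := by
        show s (TrivSqZeroExt.fst (1 : TrivSqZeroExt B L)) + E.incl (TrivSqZeroExt.snd (1 : TrivSqZeroExt B L)) = 1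
        simp
      map_mul' := fun x y => by
        change TrivSqZeroExt B L at x y
        show s (TrivSqZeroExt.fst (x * y)) + E.incl (TrivSqZeroExt.snd (x * y)) =
          (s (TrivSqZeroExt.fst x) + E.incl (TrivSqZeroExt.snd x)) * (s (TrivSqZeroExt.fst y) + E.incl (TrivSqZeroExt.snd y))
        rw [TrivSqZeroExt.fst_mul, TrivSqZeroExt.snd_mul, op_smul_eq_smul, map_mul, map_add, ← hmul, ← hmul,
          add_mul, mul_add, mul_add, hincl, mul_comm (E.incl (TrivSqZeroExt.snd x))]
        abel
      map_zero' := by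
        show s (TrivSqZeroExt.fst (0 : TrivSqZeroExt B L)) + E.incl (TrivSqZeroExt.snd (0 : TrivSqZeroExt B L)) = 0
        simp
      map_add' := fun x y => by
        change TrivSqZeroExt B L at x y
        show s (TrivSqZeroExt.fst (x + y)) + E.incl (TrivSqZeroExt.snd (x + y)) = _
        rw [TrivSqZeroExt.fst_add, TrivSqZeroExt.snd_add, map_add, map_add]
        exact add_add_add_comm _ _ _ _
      commutes' := fun c => by
        show s (TrivSqZeroExt.fst (TrivSqZeroExt.inl (algebraMap k B c) : TrivSqZeroExt B L)) +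
          E.incl (TrivSqZeroExt.snd (TrivSqZeroExt.inl (algebraMap k B c) : TrivSqZeroExt B L)) = _
        simp }
  have hproj : ∀ x, E.proj (f x) = (Exal.Ext.trivial k B L).proj x := fun x => by
    show E.proj (s _ + E.incl _) = TrivSqZeroExt.fst (show TrivSqZeroExt B L from x)
    rw [map_add, hs, (E.isExtension.exact _).2 ⟨_, rfl⟩, add_zero]
  have hbij : Function.Bijective f := by
    constructor
    · rw [injective_iff_map_eq_zero]
      intro x hx
      have h1 : TrivSqZeroExt.fst (show TrivSqZeroExt B L from x) = 0 := by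
        have := hproj x
        rw [hx, map_zero] at this
        exact this.symm
      change s (TrivSqZeroExt.fst (show TrivSqZeroExt B L from x)) + E.incl _ = 0 at hx
      rw [h1, map_zero, zero_add, ← map_zero E.incl] at hx
      exact TrivSqZeroExt.ext h1 (E.isExtension.incl_injective hx)
    · intro e
      obtain ⟨z, hz⟩ := (E.isExtension.exact (e - s (E.proj e))).1 (by rw [map_sub, hs, sub_self])
      refine ⟨(TrivSqZeroExt.inl (E.proj e) + TrivSqZeroExt.inr z : TrivSqZeroExt B L), ?_⟩
      show s (TrivSqZeroExt.fst (TrivSqZeroExt.inl (E.proj e) + TrivSqZeroExt.inr z : TrivSqZeroExt B L)) + E.incl _ = e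
      simp [hz]
  refine ⟨⟨AlgEquiv.ofBijective f hbij, hproj, fun z => ?_⟩⟩
  show s (TrivSqZeroExt.fst (TrivSqZeroExt.inr z : TrivSqZeroExt B L)) +
    E.incl (TrivSqZeroExt.snd (TrivSqZeroExt.inr z : TrivSqZeroExt B L)) = E.incl z
  simp

variable [Algebra.FiniteType k B]

/-- Affine schemes with `T¹ = 0` have only trivial deformations. -/
theorem subsingleton_obj (h : Subsingleton (T1 Q B)) (A : Art k k) :
    Subsingleton ((defFunctor (Λ := k) (Spec (CommRingCat.of B)) (AffDef.str₀ k B)).obj A) := by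
  refine ArtFunLib.surj_induction (fun A A' (_ : A' ⟶ A) =>
    Subsingleton ((defFunctor (Λ := k) (Spec (CommRingCat.of B)) (AffDef.str₀ k B)).obj A) →
    Subsingleton ((defFunctor (Λ := k) (Spec (CommRingCat.of B)) (AffDef.str₀ k B)).obj A')) ?_ ?_ ?_
    (toBase A) A.res_surjective DefGlue.h0_defFunctor.2
  · intro A A' e he hA
    exact (ArtFunLib.map_bijective (defFunctor (Λ := k) (Spec (CommRingCat.of B)) (AffDef.str₀ k B)) e).1.subsingleton
  · intro A A' p hp hA
    refine ⟨fun a b => ?_⟩
    induction a using Quotient.inductionOn with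
    | h ξ =>
    induction b using Quotient.inductionOn with
    | h ξ' =>
    obtain ⟨e⟩ := Quotient.exact (@Subsingleton.elim _ hA ((ξ'.baseChange p).cl) ((ξ.baseChange p).cl))
    obtain ⟨n, ⟨eJ⟩, ⟨E⟩⟩ := exists_equiv (X := Spec (CommRingCat.of B)) (AffDef.str₀ k B)
      hp.isSemismallExt (𝒳 := ξ.baseChange p) ⟨ξ, DefSch.Iso.refl _⟩
    obtain ⟨T⟩ := nonempty_equiv_T1 (Λ := k) Q n
    haveI := T1_tensor_subsingleton Q h (Fin n → k)
    haveI : Subsingleton (Ext p (ξ.baseChange p)) := (E.trans T).subsingleton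
    have := congrArg (Quot.lift (fun a : (Σ ζ : DefSch (Spec (CommRingCat.of B)) (AffDef.str₀ k B) A',
        (ζ.baseChange p).Iso (ξ.baseChange p)) => a.1.cl) (fun a b ⟨ψ, _⟩ => Quotient.sound ⟨ψ⟩))
      (Subsingleton.elim (Quot.mk _ ⟨ξ, DefSch.Iso.refl _⟩ : Ext p (ξ.baseChange p)) (Quot.mk _ ⟨ξ', e⟩))
    exact this
  · exact fun A B C p q _ _ hp hq h => hp (hq h)

end Groth.Agent.SemiExt29
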